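import Mathlib
import Cfsg.Agent.S5461

/-!
The normalizer `3·Fi₂₄` in a group of Monster type.
-/

namespace CfsgLib.MonLoc

open Cfsg CfsgLib.ExtraTwo CfsgLib.LargeExtra CfsgLib.MType CfsgLib.Leech CfsgLib.FiTool CfsgLib.Fi24T Subgroup
open CfsgLib.Mathieu (code)
open Cfsg.Agent.S5461

theorem norm_three {G : Type*} [Group G] [Finite G] (hG : IsGroupOfMonsterType G) :
    ∃ X N : Subgroup G, Nat.card X = 3 ∧ N = normalizer (X : Set G) ∧
      (∃ _ : (X.subgroupOf N).Normal, Nonempty (N ⧸ X.subgroupOf N ≃* Spor.Fi24)) ∧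
      ∀ L : Subgroup N, ¬ (X.subgroupOf N).IsComplement' L := by
  obtain ⟨z, Q, _, hM⟩ := hG
  obtain ⟨g, hg, hs1⟩ := not_weakly_closed hM.1
  have hs : IsConj z (g * z * g⁻¹) := isConj_iff.mpr ⟨g, rfl⟩
  generalize g * z * g⁻¹ = s at hg hs1 hs
  obtain ⟨L, e, m, h⟩ := exists_mt_e8 hM hg hs hs1
  have := Fact.mk Nat.prime_three
  obtain ⟨Y, hY, hY3, hc⟩ : ∃ Y ≤ centralizer ({z, s} : Set G), Nat.card Y = 3 ∧
      ∃ P : Sylow 3 (centralizer ({z, s} : Set G)), Y.subgroupOf _ ≤
        (center P).map (P : Subgroup (centralizer ({z, s} : Set G))).subtype := by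
    obtain ⟨π, p1, -, -⟩ := m.exists_pi h
    obtain ⟨P⟩ : Nonempty (Sylow 3 (centralizer ({z, s} : Set G))) := inferInstance
    have h3 : 3 ∣ Nat.card (centralizer ({z, s} : Set G)) :=
      Dvd.dvd.trans (by rw [card_M24]; norm_num) (card_dvd_of_surjective π p1)
    have : Nontrivial P := (nontrivial_iff_ne_bot _).2 (P.ne_bot_of_dvd_card h3)
    have := P.isPGroup'.center_nontrivial
    obtain ⟨n, hn, e⟩ := (P.isPGroup'.to_subgroup (center P)).nontrivial_iff_card.1 this
    obtain ⟨y, hy⟩ := exists_prime_orderOf_dvd_card' (G := center P) 3 (e ▸ dvd_pow_self 3 hn.ne')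
    refine ⟨zpowers y.1.1.1, zpowers_le.2 y.1.1.2, by
      rw [Nat.card_zpowers, orderOf_coe, orderOf_coe, orderOf_coe, hy], P, ?_⟩
    rintro x ⟨k, hk⟩
    exact ⟨y.1 ^ k, zpow_mem y.2 k, Subtype.ext hk⟩
  have hCN := centralizer_le_normalizer (Y : Set G)
  have := (normal_subgroupOf_iff_le_normalizer (le_normalizer (H := Y))).2 le_rfl
  obtain ⟨b, hb, hb3, L', e', m', h', c, hβ, -, hc'⟩ := m.three_std h hY hY3
    (a := C3A.σ) C3A.code_σ (code_mkM (a := sgB) (by decide +kernel))
  obtain rfl := hc'.mp hc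
  subst hb
  have hYC : zpowers (b : G) ≤ centralizer (zpowers (b : G) : Set G) := zpowers_le.mpr (mem_cent_zpowers.mpr rfl)
  have := (normal_subgroupOf_iff_le_normalizer hYC).2 hCN
  obtain ⟨hq, ⟨φ⟩, E, -, hZ, -⟩ := result z Q hM s (mem_amb.mp hg) hs hs1 _ hY hY3 hc
  obtain ⟨π, p1, p2, p3, -⟩ := m'.exists_pi' h' hβ
  obtain ⟨t, -, ht⟩ := lift_conj p1 p2 Nat.prime_three (by norm_num) hb3 (τ := mkM ta_ok) (i := 2)
    (by rw [p3, rel4, pow_two]; group)
  have ht' : (t : G) * b * (t : G)⁻¹ = b * b := by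
    rw [← pow_two]; exact congrArg Subtype.val ht
  have ho : orderOf (b : G) = 3 := by rw [← Nat.card_zpowers, hY3]
  refine ⟨_, _, hY3, rfl, ⟨inferInstance, ?_⟩, fun K hK => ?_⟩
  · let f : centralizer (zpowers (b : G) : Set G) →* normalizer (zpowers (b : G) : Set G) ⧸
        (zpowers (b : G)).subgroupOf (normalizer (zpowers (b : G) : Set G)) :=
      (QuotientGroup.mk' _).comp (inclusion hCN)
    have hk : f.ker = (zpowers (b : G)).subgroupOf (centralizer (zpowers (b : G) : Set G)) := by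
      ext x
      exact QuotientGroup.eq_one_iff (inclusion hCN x)
    have i := (QuotientGroup.quotientKerEquivRange f).symm.trans (QuotientGroup.quotientMulEquivOfEq hk)
    have n1 := CfsgLib.Fi3.card_normalizer_three ho ht'
    have n2 := card_eq_card_quotient_mul_card_subgroup ((zpowers (b : G)).subgroupOf (normalizer (zpowers (b : G) : Set G)))
    have n3 := card_eq_card_quotient_mul_card_subgroup ((zpowers (b : G)).subgroupOf (centralizer (zpowers (b : G) : Set G)))
    rw [Nat.card_congr (subgroupOfEquivOfLe (hYC.trans hCN)).toEquiv, hY3] at n2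
    rw [Nat.card_congr (subgroupOfEquivOfLe hYC).toEquiv, hY3, ← Nat.card_congr i.toEquiv] at n3
    have n4 := f.range.index_mul_card
    have n5 : f.range.index = 2 := Nat.eq_of_mul_eq_mul_right (Nat.card_pos (α := f.range)) (by omega)
    refine ext_of_cent m24_fi n5 (i.trans φ) fun x hx => by_contra fun hn => hn ?_
    have : x ∈ center _ := Subgroup.mem_center_iff.2 fun y => by
      by_cases hy : y ∈ f.range
      · exact (hx y hy).symm
      · have := hx _ ((mul_mem_iff_of_index_two n5).2 (iff_of_false hn hy))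
        rw [mul_assoc] at this
        exact (mul_left_cancel this).symm
    rw [hZ, mem_bot] at this
    exact this ▸ one_mem _
  · have h1 : commutator (centralizer (zpowers (b : G) : Set G)) ≤ K.comap (inclusion hCN) := by
      refine commutator_le.2 fun u _ v _ => ?_
      obtain ⟨⟨x, k⟩, e1⟩ := hK.2 (inclusion hCN u)
      obtain ⟨⟨y, l⟩, e2⟩ := hK.2 (inclusion hCN v)
      have hx : ∀ w : centralizer (zpowers (b : G) : Set G), ∀ x : (zpowers (b : G)).subgroupOf _,
          Commute x.1 (inclusion hCN w) := fun w x => Subtype.ext (w.2 _ x.2)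
      have hxy : Commute x.1 y.1 := Subtype.ext (hYC y.2 _ x.2)
      have e3 : (k : normalizer (zpowers (b : G) : Set G)) = x.1⁻¹ * inclusion hCN u := eq_inv_mul_of_mul_eq e1
      have e4 : (l : normalizer (zpowers (b : G) : Set G)) = y.1⁻¹ * inclusion hCN v := eq_inv_mul_of_mul_eq e2
      have h2 := K.mul_mem (K.mul_mem (K.mul_mem k.2 l.2) (K.inv_mem k.2)) (K.inv_mem l.2)
      rw [e3, e4] at h2
      rw [mem_comap, map_commutatorElement, commutatorElement_def]
      have a1 := hx u x
      have a2 := hx v x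
      have a3 := hx u y
      have a4 := hx v y
      generalize inclusion hCN u = u, inclusion hCN v = v, x.1 = x, y.1 = y at h2 a1 a2 a3 a4 hxy ⊢
      convert h2 using 1
      calc _ = u * (x⁻¹ * (y⁻¹ * v) * x) * (u⁻¹ * v⁻¹ * y) := by
            rw [(hxy.inv_right.mul_right a2).inv_left.eq, inv_mul_cancel_right,
              ← (a3.inv_right.mul_right a4.inv_right).eq, a4.inv_left.eq]; group
        _ = _ := by
          rw [mul_inv_rev x⁻¹, inv_inv, ← a1.inv_right.eq, a1.inv_left.eq]; group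
    rw [hq.1.commutator_eq_top] at h1
    have h2 : (⟨b, hCN (hYC (mem_zpowers _))⟩ : normalizer (zpowers (b : G) : Set G)) = 1 :=
      disjoint_def.1 hK.disjoint (mem_zpowers (b : G)) (h1 (mem_top ⟨b, hYC (mem_zpowers _)⟩))
    have h3 : (b : G) = 1 := congrArg Subtype.val h2
    rw [h3, orderOf_one] at ho
    exact absurd ho (by norm_num)

end CfsgLib.MonLoc
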